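import Cfsg.Agent.H272.TIInv.CaseE
import Cfsg.Agent.LieClassical.SLTwoTorus
import Cfsg.Agent.S1230
import Cfsg.Agent.Transfer.PGroupNormal

/-!
The case `|M| = q + 1`: `G ≅ PSL(2, q)`, `q` even, and `M` is cyclic.
-/

set_option autoImplicit false

namespace Cfsg.Agent.H272.TIInv

open Subgroup

/-- the centre of `SL(2, F)` is trivial in characteristic two -/
theorem sl_center_triv {F : Type*} [Field F] [CharP F 2] {x : Matrix.SpecialLinearGroup (Fin 2) F}
    (hx : x ∈ Subgroup.center (Matrix.SpecialLinearGroup (Fin 2) F)) : x = 1 := by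
  obtain ⟨r, hr, hrx⟩ := Matrix.SpecialLinearGroup.mem_center_iff.mp hx
  rw [Fintype.card_fin] at hr
  have h1 : (r - 1) * (r - 1) = 0 := by
    have h2 : (2 : F) = 0 := CharTwo.two_eq_zero
    have h3 : (r - 1) * (r - 1) = r ^ 2 - 1 - 2 * (r - 1) := by ring
    rw [h3, hr, h2]; ring
  have h2 : r = 1 := by
    have := mul_self_eq_zero.mp h1
    exact sub_eq_zero.mp this
  rw [h2, map_one] at hrx
  exact Subtype.ext hrx.symm

/-- an abelian subgroup of odd order of `PSL(2, F)`, `F` of characteristic two, is cyclic -/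
theorem isCyclic_of_psl {G : Type*} [Group G] [Finite G] {F : Type*} [Field F] [CharP F 2]
    [Finite F] (e : G ≃* Matrix.ProjectiveSpecialLinearGroup (Fin 2) F) (M : Subgroup G)
    (hc : ∀ x ∈ M, ∀ y ∈ M, x * y = y * x) (hodd : Odd (Nat.card M)) : IsCyclic M := by
  have : Fact (Nat.Prime 2) := ⟨Nat.prime_two⟩
  by_cases hM : ∃ y ∈ M, y ≠ 1
  swap
  · push Not at hM
    have hbot : M = ⊥ := (Subgroup.eq_bot_iff_forall _).mpr hM
    subst hbot
    infer_instance
  obtain ⟨y, hy, hy1⟩ := hM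
  let π : Matrix.SpecialLinearGroup (Fin 2) F →* Matrix.ProjectiveSpecialLinearGroup (Fin 2) F :=
    QuotientGroup.mk' _
  have hker : ∀ x, π x = 1 → x = 1 := fun x hx => sl_center_triv ((QuotientGroup.eq_one_iff x).mp hx)
  have hsurj : Function.Surjective π := QuotientGroup.mk'_surjective _
  let f : Matrix.SpecialLinearGroup (Fin 2) F →* G := e.symm.toMonoidHom.comp π
  have hfk : ∀ x, f x = 1 → x = 1 := by
    intro x hx
    apply hker
    have h1 : e.symm (π x) = 1 := hx
    exact (map_eq_one_iff e.symm e.symm.injective).mp h1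
  have hfs : Function.Surjective f := e.symm.surjective.comp hsurj
  have hfi : Function.Injective f := (injective_iff_map_eq_one f).mpr hfk
  let H : Subgroup (Matrix.SpecialLinearGroup (Fin 2) F) := M.comap f
  let g : H →* M := (f.comp H.subtype).codRestrict M (fun x => x.2)
  have hgs : Function.Surjective g := by
    rintro ⟨m, hm⟩
    obtain ⟨x, hx⟩ := hfs m
    exact ⟨⟨x, show f x ∈ M by rw [hx]; exact hm⟩, Subtype.ext hx⟩
  have hgi : Function.Injective g := by
    intro a b hab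
    have h1 : f a = f b := congrArg Subtype.val hab
    exact Subtype.ext (hfi h1)
  have hcard : Nat.card H = Nat.card M := Nat.card_congr (Equiv.ofBijective g ⟨hgi, hgs⟩)
  obtain ⟨x, hx⟩ := hfs y
  have hxH : x ∈ H := show f x ∈ M by rw [hx]; exact hy
  have hcyc : IsCyclic H := by
    refine Cfsg.Agent.LieClassical.SLTwoTorus.isCyclic_of_commute 2 H ?_ (x : Matrix (Fin 2) (Fin 2) F)
      ?_ ?_
    · rw [hcard]
      exact (Nat.coprime_two_right).mpr hodd
    · intro c hcx
      apply hy1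
      rw [← hx]
      have h1 : x = 1 := by
        apply sl_center_triv
        rw [Matrix.SpecialLinearGroup.mem_center_iff]
        refine ⟨c, ?_, ?_⟩
        · have h2 := x.2
          rw [hcx, Matrix.det_smul, Matrix.det_one, mul_one] at h2
          exact h2
        · rw [hcx, Matrix.scalar_apply, Matrix.smul_one_eq_diagonal]
      rw [h1, map_one]
    · intro k hk
      have h1 : k * x = x * k := by
        apply hfi
        rw [map_mul, map_mul]
        exact hc _ hk _ hxH
      exact congrArg Subtype.val h1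
  exact isCyclic_of_surjective g hgs

variable {G : Type*} [Group G] {M : Subgroup G} {z : G}

theorem Cov.caseL [Finite G] (h : Cov M z) (h2 : Nat.card (HH M z) = 2) {d : ℕ} (hd : 1 ≤ d)
    (hC : Nat.card (centralizer ({z} : Set G)) = 2 * 2 ^ d)
    (hM : Nat.card M = 2 * 2 ^ d + 1)
    (hi : (centralizer ({z} : Set G)).index = Nat.card {g : G // g * g = 1 ∧ g ≠ 1}) :
    ∃ (F : Type) (_ : Field F) (_ : Fintype F) (e : ℕ), 1 < e ∧ Fintype.card F = 2 ^ e ∧
      IsCyclic M ∧ Nat.card M = 2 ^ e + 1 ∧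
        Nonempty (G ≃* Matrix.ProjectiveSpecialLinearGroup (Fin 2) F) := by
  have : Fact (Nat.Prime 2) := ⟨Nat.prime_two⟩
  have h2d : 2 ≤ 2 ^ d := by
    calc 2 = 2 ^ 1 := rfl
      _ ≤ 2 ^ d := Nat.pow_le_pow_right (by norm_num) hd
  -- centralizers of involutions
  have hsqC : ∀ t : G, t * t = 1 → t ≠ 1 → ∀ c : G, c * t = t * c → c * c = 1 := by
    intro t ht ht1 c hc
    obtain ⟨g, hg⟩ := h.exists_conj_of_index hi ht ht1
    have h3 : (g⁻¹ * c * g) * (g⁻¹ * c * g) = 1 := by
      apply h.sq_C h2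
      rw [hg] at hc
      calc g⁻¹ * c * g * z = g⁻¹ * (c * (g * z * g⁻¹)) * g := by group
        _ = g⁻¹ * (g * z * g⁻¹ * c) * g := by rw [hc]
        _ = z * (g⁻¹ * c * g) := by group
    calc c * c = g * ((g⁻¹ * c * g) * (g⁻¹ * c * g)) * g⁻¹ := by group
      _ = 1 := by rw [h3]; group
  have hab : ∀ H : Subgroup G, (∀ x ∈ H, x * x = 1) → ∀ a ∈ H, ∀ b ∈ H, a * b = b * a := by
    intro H hH a ha b hb
    have h6 : (a : G)⁻¹ = a := inv_eq_of_mul_eq_one_left (hH a ha)
    have h7 : (b : G)⁻¹ = b := inv_eq_of_mul_eq_one_left (hH b hb)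
    have h8 : ((a : G) * b)⁻¹ = a * b := inv_eq_of_mul_eq_one_left (hH _ (H.mul_mem ha hb))
    rw [← h8, mul_inv_rev, h6, h7]
  have hconv : ∀ t : G, orderOf t = 2 → t * t = 1 ∧ t ≠ 1 := by
    intro t ht
    refine ⟨by rw [← pow_two, ← ht]; exact pow_orderOf_eq_one t, ?_⟩
    rintro rfl
    rw [orderOf_one] at ht
    norm_num at ht
  obtain ⟨T, hT⟩ := (h.isPGroup_C h2).exists_le_sylow
  have hzT : z ∈ (T : Subgroup G) := hT (Subgroup.mem_centralizer_singleton_iff.mpr rfl)
  -- `T` is the centralizer of `z`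
  have hTsq : ∀ x ∈ (T : Subgroup G), x * x = 1 := by
    have hTne : (⊤ : Subgroup T) ≠ ⊥ := by
      intro h0
      apply h.z1
      have h3 : (⟨z, hzT⟩ : T) ∈ (⊤ : Subgroup T) := Subgroup.mem_top _
      rw [h0, Subgroup.mem_bot] at h3
      exact congrArg Subtype.val h3
    obtain ⟨w, -, hwc, hw⟩ := Cfsg.Agent.Transfer.PGroupNormal.exists_mem_inf_center_orderOf
      (p := 2) T.isPGroup' ⊤ hTne
    have hw' : orderOf (w : G) = 2 := (Subgroup.orderOf_coe w).trans hw
    obtain ⟨hww, hw1⟩ := hconv _ hw'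
    intro x hx
    refine hsqC w hww hw1 x ?_
    exact congrArg Subtype.val (Subgroup.mem_center_iff.mp hwc ⟨x, hx⟩)
  have hTC : (T : Subgroup G) = centralizer ({z} : Set G) := by
    refine le_antisymm ?_ hT
    intro x hx
    exact Subgroup.mem_centralizer_singleton_iff.mpr (hab _ hTsq x hx z hzT)
  have hTcard : Nat.card T = 2 * 2 ^ d := by
    rw [← hC]
    exact congrArg (fun H : Subgroup G => Nat.card H) hTC
  have hnc : ¬ IsCyclic (T : Subgroup G) := by
    intro hcyc
    obtain ⟨g, hg⟩ := hcyc.exists_generator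
    have h3 := orderOf_eq_card_of_forall_mem_zpowers hg
    have h4 : g ^ 2 = 1 := by
      rw [pow_two]
      exact Subtype.ext (hTsq g g.2)
    have h5 := Nat.le_of_dvd (by norm_num) (orderOf_dvd_of_pow_eq_one h4)
    rw [h3] at h5
    have h6 : Nat.card (T : Subgroup G) = 2 * 2 ^ d := hTcard
    omega
  have hnn : ¬ (T : Subgroup G).Normal := by
    intro hn
    exact h.z_not_mem_pCore (Cfsg.Agent.Lib.Cores.le_pCore hn T.isPGroup' hzT)
  obtain ⟨F, i1, i2, hF, ⟨e⟩⟩ := Cfsg.Agent.S1230.result T hnc hnn (by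
    intro t ht
    obtain ⟨htt, ht1⟩ := hconv t ht
    have h3 : ∀ x ∈ centralizer ({t} : Set G), x * x = 1 := fun x hx =>
      hsqC t htt ht1 x (Subgroup.mem_centralizer_singleton_iff.mp hx)
    refine ⟨⟨⟨fun a b => Subtype.ext (hab _ h3 a a.2 b b.2)⟩⟩, fun c hc => ?_⟩
    rw [pow_two]
    exact h3 c hc)
  have hF' : Fintype.card F = 2 ^ (d + 1) := by rw [hF, hTcard]; ring
  have hchar : CharP F 2 := charP_of_card_eq_prime_pow hF'
  refine ⟨F, i1, i2, d + 1, by omega, hF', ?_, ?_, ⟨e⟩⟩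
  · exact isCyclic_of_psl e M (fun x hx y hy => h.comm hx hy) h.odd_card
  · rw [hM]; ring

end Cfsg.Agent.H272.TIInv
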