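import Cfsg.Agent.H272.TIInv.Basic

/-!
If there are more involutions than cosets of `M`, every coset of `M` outside `N(M)` contains an involution.
-/

set_option autoImplicit false

namespace Cfsg.Agent.H272.TIInv

open Subgroup

variable {G : Type*} [Group G] {M : Subgroup G} {z : G}

namespace Hyp

theorem card_I [Finite G] (h : Hyp M z) : Nat.card {g : G // g * g = 1 ∧ g ≠ 1} =
    Nat.card M + Nat.card {g : G // g * g = 1 ∧ g ∉ normalizer (M : Set G)} := by
  let f : M ⊕ {g : G // g * g = 1 ∧ g ∉ normalizer (M : Set G)} → {g : G // g * g = 1 ∧ g ≠ 1} :=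
    fun s => match s with
      | Sum.inl y => ⟨y * z, h.mul_z_sq y.2, h.mul_z_ne y.2⟩
      | Sum.inr u => ⟨u, u.2.1, fun h1 => u.2.2 (by rw [h1]; exact one_mem _)⟩
  have hf : Function.Bijective f := by
    constructor
    · rintro (a | a) (b | b) hab
      · have h1 : (a : G) * z = b * z := congrArg Subtype.val hab
        rw [Subtype.ext (mul_right_cancel h1)]
      · exfalso
        have h1 : (a : G) * z = b := congrArg Subtype.val hab
        exact b.2.2 (h1 ▸ h.mul_z_mem a.2)
      · exfalso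
        have h1 : (a : G) = b * z := congrArg Subtype.val hab
        exact a.2.2 (h1 ▸ h.mul_z_mem b.2)
      · have h1 : ((f (Sum.inr a)) : G) = (f (Sum.inr b)) := by rw [hab]
        have h2 : (a : G) = b := h1
        rw [Subtype.ext h2]
    · rintro ⟨g, hg, hg1⟩
      by_cases hgN : g ∈ normalizer (M : Set G)
      · obtain ⟨y, hy, hyg⟩ := h.exists_eq_of_mem_N hg hg1 hgN
        exact ⟨Sum.inl ⟨y, hy⟩, Subtype.ext hyg.symm⟩
      · exact ⟨Sum.inr ⟨g, hg, hgN⟩, rfl⟩
  rw [← Nat.card_congr (Equiv.ofBijective f hf), Nat.card_sum]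

theorem card_compl [Finite G] (H : Subgroup G) : Nat.card H + Nat.card {g : G // g ∉ H} = Nat.card G := by
  classical
  rw [← Nat.card_congr (Equiv.sumCompl (fun g : G => g ∈ H)), Nat.card_sum]

/-- the map `(u, y) ↦ u y` -/
theorem mul_not_mem {x y : G} (hx : x ∉ normalizer (M : Set G)) (hy : y ∈ M) :
    x * y ∉ normalizer (M : Set G) := by
  intro h1
  apply hx
  have := mul_mem h1 (le_N (M.inv_mem hy))
  rwa [mul_inv_cancel_right] at this

theorem mul_not_mem' {x y : G} (hx : x ∉ normalizer (M : Set G)) (hy : y ∈ M) :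
    y * x ∉ normalizer (M : Set G) := by
  intro h1
  apply hx
  have := mul_mem (le_N (M.inv_mem hy)) h1
  rwa [inv_mul_cancel_left] at this

theorem inj_aux (h : Hyp M z) {u v y w : G} (hu : u * u = 1) (hv : v * v = 1)
    (huN : u ∉ normalizer (M : Set G)) (hy : y ∈ M) (hw : w ∈ M) (he : u * y = v * w) :
    u = v ∧ y = w := by
  have hvi : v⁻¹ = v := inv_eq_of_mul_eq_one_left hv
  have hui : u⁻¹ = u := inv_eq_of_mul_eq_one_left hu
  have h1 : u * v ∈ M := by
    have h2 : u * v = y * w⁻¹ := by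
      have h3 : u * (u * y) * w⁻¹ = u * (v * w) * w⁻¹ := by rw [he]
      rw [← mul_assoc u u y, hu, one_mul, mul_assoc u (v * w), mul_inv_cancel_right] at h3
      exact h3.symm
    rw [h2]
    exact M.mul_mem hy (M.inv_mem hw)
  have h2 := h.eq_of_mul_mem hu hv huN h1
  subst h2
  exact ⟨rfl, mul_left_cancel he⟩

/-- every coset of `M` outside `N(M)` contains an involution -/
theorem cover [Finite G] (h : Hyp M z) (hI : M.index < Nat.card {g : G // g * g = 1 ∧ g ≠ 1}) {x : G}
    (hx : x ∉ normalizer (M : Set G)) : ∃ y ∈ M, (x * y) * (x * y) = 1 := by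
  by_contra hcon
  push Not at hcon
  let f : ({g : G // g * g = 1 ∧ g ∉ normalizer (M : Set G)} × M) ⊕ (M × M) →
      {g : G // g ∉ normalizer (M : Set G)} := fun s => match s with
    | Sum.inl p => ⟨p.1 * p.2, mul_not_mem p.1.2.2 p.2.2⟩
    | Sum.inr p => ⟨p.1 * x * p.2, mul_not_mem (mul_not_mem' hx p.1.2) p.2.2⟩
  have hcross : ∀ (u : {g : G // g * g = 1 ∧ g ∉ normalizer (M : Set G)}) (y a b : M),
      (u : G) * y ≠ a * x * b := by
    intro u y a b he
    refine hcon (b * (y : G)⁻¹ * a) (M.mul_mem (M.mul_mem b.2 (M.inv_mem y.2)) a.2) ?_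
    have h1 : x * (b * (y : G)⁻¹ * a) = (a : G)⁻¹ * u * a := by
      have h2 : x = (a : G)⁻¹ * ((u : G) * y) * (b : G)⁻¹ := by rw [he]; group
      rw [h2]; group
    rw [h1]
    calc (a : G)⁻¹ * u * a * ((a : G)⁻¹ * u * a) = (a : G)⁻¹ * (u * u) * a := by group
      _ = 1 := by rw [u.2.1]; group
  have hf : Function.Injective f := by
    rintro (⟨u, y⟩ | ⟨a, b⟩) (⟨v, w⟩ | ⟨c, d⟩) hab
    · have h1 : (u : G) * y = v * w := congrArg Subtype.val hab
      obtain ⟨h2, h3⟩ := h.inj_aux u.2.1 v.2.1 u.2.2 y.2 w.2 h1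
      rw [Subtype.ext h2, Subtype.ext h3]
    · exact absurd (congrArg Subtype.val hab) (hcross u y c d)
    · exact absurd (congrArg Subtype.val hab).symm (hcross v w a b)
    · have h1 : (a : G) * x * b = c * x * d := congrArg Subtype.val hab
      have h2 : x⁻¹ * ((c : G)⁻¹ * a) * x⁻¹⁻¹ = d * (b : G)⁻¹ := by
        have h3 : x⁻¹ * (c : G)⁻¹ * (a * x * b) * (b : G)⁻¹ = x⁻¹ * (c : G)⁻¹ * (c * x * d) * (b : G)⁻¹ := by
          rw [h1]
        have h4 : x⁻¹ * (c : G)⁻¹ * (a * x * b) * (b : G)⁻¹ = x⁻¹ * ((c : G)⁻¹ * a) * x⁻¹⁻¹ := by group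
        have h5 : x⁻¹ * (c : G)⁻¹ * (c * x * d) * (b : G)⁻¹ = d * (b : G)⁻¹ := by group
        rw [← h4, ← h5, h3]
      have h3 : (c : G)⁻¹ * a = 1 := by
        by_contra hne
        apply hx
        have := h.ti x⁻¹ _ (M.mul_mem (M.inv_mem c.2) a.2) hne
          (by rw [h2]; exact M.mul_mem d.2 (M.inv_mem b.2))
        have h4 := inv_mem this
        rwa [inv_inv] at h4
      have h4 : (a : G) = c := (inv_mul_eq_one.mp h3).symm
      rw [h4] at h1
      have h5 : (b : G) = d := mul_left_cancel h1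
      rw [Subtype.ext h4, Subtype.ext h5]
  have h1 := Nat.card_le_card_of_injective f hf
  rw [Nat.card_sum, Nat.card_prod, Nat.card_prod] at h1
  have h2 := card_compl (normalizer (M : Set G))
  have h3 : 0 < Nat.card (normalizer (M : Set G)) := Nat.card_pos
  have h4 := M.card_mul_index
  rw [h.card_I] at hI
  have h5 : 0 < Nat.card M := Nat.card_pos
  have h6 : Nat.card M * M.index < Nat.card M * (Nat.card M +
      Nat.card {g : G // g * g = 1 ∧ g ∉ normalizer (M : Set G)}) := Nat.mul_lt_mul_of_pos_left hI h5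
  rw [h4] at h6
  nlinarith

/-- counting when every coset outside `N(M)` contains an involution -/
theorem card_of_cover [Finite G] (h : Hyp M z)
    (hcov : ∀ x : G, x ∉ normalizer (M : Set G) → ∃ y ∈ M, (x * y) * (x * y) = 1) :
    Nat.card {g : G // g * g = 1 ∧ g ∉ normalizer (M : Set G)} * Nat.card M +
      Nat.card (normalizer (M : Set G)) = Nat.card G := by
  let f : ({g : G // g * g = 1 ∧ g ∉ normalizer (M : Set G)} × M) →
      {g : G // g ∉ normalizer (M : Set G)} := fun p => ⟨p.1 * p.2, mul_not_mem p.1.2.2 p.2.2⟩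
  have hf : Function.Bijective f := by
    constructor
    · rintro ⟨u, y⟩ ⟨v, w⟩ hab
      have h1 : (u : G) * y = v * w := congrArg Subtype.val hab
      obtain ⟨h2, h3⟩ := h.inj_aux u.2.1 v.2.1 u.2.2 y.2 w.2 h1
      rw [Subtype.ext h2, Subtype.ext h3]
    · rintro ⟨x, hx⟩
      obtain ⟨y, hy, hxy⟩ := hcov x hx
      refine ⟨(⟨x * y, hxy, mul_not_mem hx hy⟩, ⟨y⁻¹, M.inv_mem hy⟩), Subtype.ext ?_⟩
      show x * y * y⁻¹ = x
      group
  have h1 := Nat.card_congr (Equiv.ofBijective f hf)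
  rw [Nat.card_prod] at h1
  rw [h1, add_comm]
  exact card_compl _

end Hyp

end Cfsg.Agent.H272.TIInv
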