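import Cfsg.Agent.H272.TIInv.Zass
import Cfsg.Agent.H272.TIInv.PGLCore
import Cfsg.Agent.S0738
import Cfsg.Agent.S0741
import Cfsg.Agent.S0742
import Cfsg.Prelude.Def_Transfer

/-!
The case `C(z) ∩ N(M) ≠ ⟨z⟩`: identification of `G`.
-/

set_option autoImplicit false

namespace Cfsg.Agent.H272.TIInv

open Subgroup

variable {G : Type*} [Group G] {M : Subgroup G} {z u : G}

namespace Big

theorem exists_unique_move [Finite G] (h : Big M z u) (a b : G ⧸ normalizer (M : Set G))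
    (ha : a ≠ ((1 : G) : G ⧸ normalizer (M : Set G)))
    (hb : b ≠ ((1 : G) : G ⧸ normalizer (M : Set G))) : ∃! m : M, (m : G) • a = b := by
  obtain ⟨y, hy, rfl⟩ := h.exists_point ha
  obtain ⟨w, hw, rfl⟩ := h.exists_point hb
  refine ⟨⟨w * y⁻¹, M.mul_mem hw (M.inv_mem hy)⟩, ?_, ?_⟩
  · show (w * y⁻¹) • ((y * u : G) : G ⧸ normalizer (M : Set G)) = _
    rw [smul_mk]
    congr 1
    group
  · rintro ⟨m, hm⟩ hmy
    have h1 : m • ((y * u : G) : G ⧸ normalizer (M : Set G)) =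
      ((w * u : G) : G ⧸ normalizer (M : Set G)) := hmy
    rw [smul_mk, QuotientGroup.eq] at h1
    have h2 : m * y = w := by
      apply h.uniq (M.mul_mem hm hy) hw
      rwa [mul_assoc]
    apply Subtype.ext
    show m = w * y⁻¹
    rw [← h2]; group

/-- the prime -/
theorem exists_prime [Finite G] (h : Big M z u) (hlt : Nat.card (HH M z) < Nat.card M) :
    Nat.card M - 1 ≤ 2 * Nat.card (HH M z) ∧ IsMulCommutative M ∧
      ∃ p f : ℕ, p.Prime ∧ (∀ x ∈ M, x ^ p = 1) ∧ Nat.card M = p ^ f := by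
  classical
  have : Fintype (G ⧸ normalizer (M : Set G)) := Fintype.ofFinite _
  have hΩ : Fintype.card (G ⧸ normalizer (M : Set G)) = Nat.card M + 1 := by
    rw [← h.index_N, Subgroup.index, Nat.card_eq_fintype_card]
  have hZ := h.isZassenhaus hlt
  have hu1 : ((1 : G) : G ⧸ normalizer (M : Set G)) ≠ ((u : G) : G ⧸ normalizer (M : Set G)) := by
    have := h.point_ne (y := 1) M.one_mem
    rw [one_mul] at this
    exact this.symm
  have h1 := Cfsg.Agent.S0741.result hZ hu1 (by rw [h.stab_inf]; exact h.four_le.2)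
  have h2 := Cfsg.Agent.S0738.result hZ hu1 h1 M (by rw [stab_one]; exact Subgroup.le_normalizer) (by
    rw [stab_one]
    exact Subgroup.normal_in_normalizer) (fun a b => h.exists_unique_move a b)
  rw [h.stab_inf, hΩ] at h1
  refine ⟨by omega, h2.1, ?_⟩
  obtain ⟨-, p, f, hp, hpM, hf⟩ := h2
  rw [hΩ] at hf
  exact ⟨p, f, hp, hpM, by omega⟩

theorem one_lt_card [Finite G] (h : Big M z u) : 1 < Nat.card M := by
  obtain ⟨y, hy, hy1⟩ := h.exists_ne
  have h1 : 0 < Nat.card M := Nat.card_pos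
  have h2 : Nat.card M ≠ 1 := by
    intro h3
    exact hy1 (Subgroup.mem_bot.mp ((Subgroup.card_eq_one.mp h3) ▸ hy))
  omega

theorem psl [Finite G] (h : Big M z u) (hlt : Nat.card (HH M z) < Nat.card M)
    (hle : 2 * Nat.card (HH M z) ≤ Nat.card M - 1) :
    ∃ (F : Type) (_ : Field F) (_ : Fintype F) (p : ℕ) (_ : Fact p.Prime) (_ : CharP F p),
      Fintype.card F = Nat.card M ∧ Cfsg.IsElementaryAbelian p M ∧
      Fintype.card F % 4 = 1 ∧ Nonempty (G ≃* Matrix.ProjectiveSpecialLinearGroup (Fin 2) F) := by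
  classical
  obtain ⟨h1, hcomm, p, f, hp, hpM, hf⟩ := h.exists_prime hlt
  have : Fintype (G ⧸ normalizer (M : Set G)) := Fintype.ofFinite _
  have hΩ : Fintype.card (G ⧸ normalizer (M : Set G)) = Nat.card M + 1 := by
    rw [← h.index_N, Subgroup.index, Nat.card_eq_fintype_card]
  have hZ := h.isZassenhaus hlt
  have hu1 : ((1 : G) : G ⧸ normalizer (M : Set G)) ≠ ((u : G) : G ⧸ normalizer (M : Set G)) := by
    have := h.point_ne (y := 1) M.one_mem
    rw [one_mul] at this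
    exact this.symm
  obtain ⟨p', f', K, hK1, hK2, hp', hp'2, hKc, hΩ', hiso⟩ := Cfsg.Agent.S0742.result hZ hu1
    (by rw [h.stab_inf]; exact h.four_le.2) (by rw [h.stab_inf, hΩ]; omega)
  rw [hΩ] at hΩ'
  have hMc : Nat.card M = p' ^ f' := by omega
  have hM1 := h.one_lt_card
  have hf0 : f ≠ 0 := by
    rintro rfl
    rw [pow_zero] at hf
    omega
  have hpp : p = p' := by
    have h2 : p ∣ p' ^ f' := by
      rw [← hMc, hf]
      exact dvd_pow_self p hf0
    exact (Nat.prime_dvd_prime_iff_eq hp hp').mp (hp.dvd_of_dvd_pow h2)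
  subst hpp
  have hfact : Fact p.Prime := ⟨hp⟩
  refine ⟨K, hK1, hK2, p, hfact, charP_of_card_eq_prime_pow hKc,
    by rw [hKc, hMc], ⟨hcomm, hpM⟩, ?_, hiso⟩
  rw [hKc, ← hMc]
  obtain ⟨k, hk⟩ := h.four_le.2
  omega

end Big

end Cfsg.Agent.H272.TIInv
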